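import Mathlib

/-!
BG Appendix C (S1472), preliminaries (helper9): consequences of the hypotheses of S1472 that do
not use the field identity: `ψ(U)` is the group of `n`-th roots of unity (`n = (p^q-1)/(p-1)`),
`F^× = F_p^× × ψ(U)`, `P ∩ U = 1`, `H ∩ H^(t^k) = U` for `H = P ⊔ U`, `t = y s y⁻¹`, `p ∤ k`,
rigidity `P^(t^i) ∩ P^(t^j) = 1` and "Lemma S".
-/

set_option autoImplicit false
set_option linter.unusedVariables false
set_option linter.unusedSectionVars false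

namespace Cfsg.Agent.Lib.Helper9.AppC

/-- A finite set of `n`-th roots of unity with at least `n` elements contains all of them. -/
theorem mem_of_pow_eq_one {F : Type*} [Field F] [DecidableEq F] (n : ℕ) (hn : 0 < n)
    (S : Finset F) (hS : ∀ x ∈ S, x ^ n = 1) (hcard : n ≤ S.card) (d : F) (hd : d ^ n = 1) :
    d ∈ S := by
  have hsub : S ⊆ Polynomial.nthRootsFinset n (1 : F) :=
    fun x hx => (Polynomial.mem_nthRootsFinset hn 1).2 (hS x hx)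
  have hle : (Polynomial.nthRootsFinset n (1 : F)).card ≤ n := by
    rw [Polynomial.nthRootsFinset_def]
    exact (Multiset.toFinset_card_le _).trans (Polynomial.card_nthRoots n 1)
  have heq := Finset.eq_of_subset_of_card_le hsub (hle.trans hcard)
  rw [heq]
  exact (Polynomial.mem_nthRootsFinset hn 1).2 hd

/-- `(a c)^m ∈ P c^m` when conjugation by `c` maps `P` into `P`. -/
theorem pow_mul_form {G : Type*} [Group G] (P : Subgroup G) (a c : G) (ha : a ∈ P)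
    (hc : ∀ x ∈ P, c * x * c⁻¹ ∈ P) (m : ℕ) : ∃ x ∈ P, (a * c) ^ m = x * c ^ m := by
  have hcm : ∀ m : ℕ, ∀ x ∈ P, c ^ m * x * (c ^ m)⁻¹ ∈ P := by
    intro m
    induction m with
    | zero => intro x hx; simpa using hx
    | succ m ih =>
      intro x hx
      have h1 := hc _ (ih x hx)
      have h2 : c ^ (m + 1) * x * (c ^ (m + 1))⁻¹ = c * (c ^ m * x * (c ^ m)⁻¹) * c⁻¹ := by
        rw [pow_succ']; group
      rw [h2]; exact h1
  induction m with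
  | zero => exact ⟨1, P.one_mem, by simp⟩
  | succ m ih =>
    obtain ⟨x, hx, hxm⟩ := ih
    refine ⟨x * (c ^ m * a * (c ^ m)⁻¹), P.mul_mem hx (hcm m a ha), ?_⟩
    rw [pow_succ, hxm, pow_succ]; group

/-- The hypotheses of S1472, bundled. -/
structure Cfg {G : Type*} [Group G] (p q : ℕ) (F : Type*) [Field F] [Fintype F]
    (P U Q : Subgroup G) (f ψ : G → F) (y : G) : Prop where
  hA : Nat.Coprime ((p ^ q - 1) / (p - 1)) (p - 1)
  hF : Fintype.card F = p ^ q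
  hf : Set.BijOn f (P : Set G) Set.univ
  hfadd : ∀ x ∈ P, ∀ z ∈ P, f (x * z) = f x + f z
  hUP : U ≤ Subgroup.normalizer (P : Set G)
  hψ : ∀ u ∈ U, ψ u ≠ 0 ∧ ∀ x ∈ P, f (u * x * u⁻¹) = ψ u * f x
  hψmul : ∀ u ∈ U, ∀ v ∈ U, ψ (u * v) = ψ u * ψ v
  hψinj : Set.InjOn ψ (U : Set G)
  hUcard : Nat.card U * (p - 1) = p ^ q - 1
  hQ : IsMulCommutative Q
  hQp : (Nat.card Q).Coprime p
  hP0Q : ∀ x ∈ P, f x ^ p = f x → x ∈ Subgroup.normalizer (Q : Set G)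
  hy : y ∈ Q
  hP0U : ∀ x ∈ P, f x ^ p = f x → y * x * y⁻¹ ∈ Subgroup.normalizer (U : Set G)

namespace Cfg

variable {G : Type*} [Group G] [Finite G] {p q : ℕ} [Fact p.Prime] [Fact q.Prime]
  {F : Type*} [Field F] [Fintype F] {P U Q : Subgroup G} {f ψ : G → F} {y : G}
  (h : Cfg p q F P U Q f ψ y)
include h

theorem f_one : f 1 = 0 := by
  have h1 := h.hfadd 1 P.one_mem 1 P.one_mem
  rw [one_mul] at h1
  linear_combination -h1

theorem f_inv {x : G} (hx : x ∈ P) : f x⁻¹ = - f x := by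
  have h1 := h.hfadd x hx x⁻¹ (P.inv_mem hx)
  rw [mul_inv_cancel, h.f_one] at h1
  linear_combination -h1

theorem f_pow {x : G} (hx : x ∈ P) (k : ℕ) : f (x ^ k) = (k : F) * f x := by
  induction k with
  | zero => simp [h.f_one]
  | succ k ih =>
    rw [pow_succ, h.hfadd _ (P.pow_mem hx k) _ hx, ih]
    push_cast; ring

theorem f_zpow {x : G} (hx : x ∈ P) (k : ℤ) : f (x ^ k) = (k : F) * f x := by
  obtain ⟨m, rfl | rfl⟩ := Int.eq_nat_or_neg k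
  · rw [zpow_natCast, h.f_pow hx]; simp
  · rw [zpow_neg, zpow_natCast, h.f_inv (P.pow_mem hx m), h.f_pow hx]; simp

theorem p_cast : (p : F) = 0 := by
  have h1 : ((Fintype.card F : ℕ) : F) = 0 := Nat.cast_card_eq_zero F
  rw [h.hF] at h1
  push_cast at h1
  exact (pow_eq_zero_iff (Fact.out : q.Prime).ne_zero).mp h1

theorem charP : CharP F p := (CharP.charP_iff_prime_eq_zero (Fact.out : p.Prime)).2 h.p_cast

theorem pow_p {x : G} (hx : x ∈ P) : x ^ p = 1 := by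
  apply h.hf.injOn (P.pow_mem hx p) P.one_mem
  rw [h.f_pow hx, h.p_cast, zero_mul, h.f_one]

theorem p_sub_pos : 0 < p - 1 := by
  have := (Fact.out : p.Prime).two_le
  omega

theorem card_U : Nat.card U = (p ^ q - 1) / (p - 1) := by
  rw [← h.hUcard]
  exact (Nat.mul_div_cancel _ h.p_sub_pos).symm

theorem n_mul : (p ^ q - 1) / (p - 1) * (p - 1) = p ^ q - 1 := by
  rw [← h.card_U]; exact h.hUcard

theorem n_gt_one : 1 < (p ^ q - 1) / (p - 1) := by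
  have hp2 := (Fact.out : p.Prime).two_le
  have hq2 := (Fact.out : q.Prime).two_le
  have h1 : p ^ 2 ≤ p ^ q := Nat.pow_le_pow_right (by omega) hq2
  have h2 : 2 * p ≤ p ^ 2 := by rw [pow_two]; exact Nat.mul_le_mul_right p hp2
  have h3 := h.n_mul
  by_contra hcon
  have h4 : (p ^ q - 1) / (p - 1) ≤ 1 := by omega
  have h5 : (p ^ q - 1) / (p - 1) * (p - 1) ≤ 1 * (p - 1) := Nat.mul_le_mul_right _ h4
  omega

theorem n_coprime_p : Nat.Coprime ((p ^ q - 1) / (p - 1)) p := by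
  have hpp : p.Prime := Fact.out
  have h3 := h.n_mul
  have hq0 : q ≠ 0 := (Fact.out : q.Prime).ne_zero
  have hpos : 0 < p ^ q := pow_pos hpp.pos q
  rw [Nat.coprime_comm, hpp.coprime_iff_not_dvd]
  intro hdvd
  have h4 : p ∣ p ^ q - 1 := by rw [← h3]; exact Dvd.dvd.mul_right hdvd _
  have h5 : p ∣ p ^ q := dvd_pow_self p hq0
  have h6 : p ∣ p ^ q - (p ^ q - 1) := Nat.dvd_sub h5 h4
  have h7 : p ^ q - (p ^ q - 1) = 1 := by omega
  rw [h7] at h6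
  exact hpp.one_lt.ne' (Nat.dvd_one.mp h6)

theorem psi_one : ψ 1 = 1 := by
  have h1 := h.hψmul 1 U.one_mem 1 U.one_mem
  rw [one_mul] at h1
  have h0 := (h.hψ 1 U.one_mem).1
  exact (mul_right_cancel₀ h0 (show 1 * ψ 1 = ψ 1 * ψ 1 by rw [one_mul]; exact h1)).symm

theorem psi_pow {u : G} (hu : u ∈ U) (k : ℕ) : ψ (u ^ k) = ψ u ^ k := by
  induction k with
  | zero => simp [h.psi_one]
  | succ k ih => rw [pow_succ, h.hψmul _ (U.pow_mem hu k) _ hu, ih, pow_succ]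

theorem pow_card_U {u : G} (hu : u ∈ U) : u ^ ((p ^ q - 1) / (p - 1)) = 1 := by
  rw [← h.card_U]
  have h1 : (⟨u, hu⟩ : U) ^ Nat.card U = 1 := pow_card_eq_one'
  have h2 := congrArg Subtype.val h1
  rw [Subgroup.coe_pow, Subgroup.coe_one] at h2
  exact h2

theorem psi_pow_n {u : G} (hu : u ∈ U) : ψ u ^ ((p ^ q - 1) / (p - 1)) = 1 := by
  rw [← h.psi_pow hu, h.pow_card_U hu, h.psi_one]

theorem psi_surj (d : F) (hd : d ^ ((p ^ q - 1) / (p - 1)) = 1) : ∃ u ∈ U, ψ u = d := by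
  classical
  have hn0 : 0 < (p ^ q - 1) / (p - 1) := lt_trans Nat.zero_lt_one h.n_gt_one
  let _ : Fintype U := Fintype.ofFinite U
  let S : Finset F := Finset.univ.image (fun u : U => ψ (u : G))
  have hS : S.card = (p ^ q - 1) / (p - 1) := by
    rw [Finset.card_image_of_injective, Finset.card_univ, ← Nat.card_eq_fintype_card, h.card_U]
    intro a b hab
    exact Subtype.ext (h.hψinj a.2 b.2 hab)
  have hmem : d ∈ S := by
    refine mem_of_pow_eq_one _ hn0 S ?_ hS.ge d hd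
    intro x hx
    obtain ⟨u, -, rfl⟩ := Finset.mem_image.mp hx
    exact h.psi_pow_n u.2
  obtain ⟨u, -, rfl⟩ := Finset.mem_image.mp hmem
  exact ⟨u, u.2, rfl⟩

/-- Elements of `F` with `c ^ (p - 1) = 1` are nonzero elements of the prime field. -/
theorem prime_field_elt (c : F) (hc : c ^ (p - 1) = 1) : ∃ k : ℕ, ¬ p ∣ k ∧ c = (k : F) := by
  classical
  have _ := h.charP
  have hpp : p.Prime := Fact.out
  let S : Finset F := (Finset.range (p - 1)).image (fun k : ℕ => ((k + 1 : ℕ) : F))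
  have hS : S.card = p - 1 := by
    rw [Finset.card_image_of_injOn, Finset.card_range]
    intro a ha b hb hab
    have ha' : a + 1 ∈ Set.Iio p := by
      have := Finset.mem_range.mp ha; simp only [Set.mem_Iio]; omega
    have hb' : b + 1 ∈ Set.Iio p := by
      have := Finset.mem_range.mp hb; simp only [Set.mem_Iio]; omega
    have := CharP.natCast_injOn_Iio F p ha' hb' hab
    omega
  have hmem : c ∈ S := by
    refine mem_of_pow_eq_one _ h.p_sub_pos S ?_ hS.ge c hc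
    intro x hx
    obtain ⟨k, hk, rfl⟩ := Finset.mem_image.mp hx
    have hk' := Finset.mem_range.mp hk
    have hne : ((k + 1 : ℕ) : ZMod p) ≠ 0 := by
      rw [Ne, ZMod.natCast_eq_zero_iff]
      exact Nat.not_dvd_of_pos_of_lt (by omega) (by omega)
    have h1 := ZMod.pow_card_sub_one_eq_one hne
    have h2 := congrArg (ZMod.castHom (dvd_refl p) F) h1
    rw [map_pow, map_natCast, map_one] at h2
    exact h2
  obtain ⟨k, hk, rfl⟩ := Finset.mem_image.mp hmem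
  have hk' := Finset.mem_range.mp hk
  exact ⟨k + 1, Nat.not_dvd_of_pos_of_lt (by omega) (by omega), rfl⟩

theorem decomp (d : F) (hd : d ≠ 0) : ∃ k : ℕ, ¬ p ∣ k ∧ ∃ u ∈ U, d = (k : F) * ψ u := by
  have h1 : d ^ (p ^ q - 1) = 1 := by
    have := FiniteField.pow_card_sub_one_eq_one d hd
    rwa [h.hF] at this
  have hnm := h.n_mul
  obtain ⟨m, -, hm⟩ := Nat.exists_mul_mod_eq_one_of_coprime h.hA.symm h.n_gt_one
  have hm' := Nat.div_add_mod ((p - 1) * m) ((p ^ q - 1) / (p - 1))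
  rw [hm] at hm'
  set n := (p ^ q - 1) / (p - 1) with hn
  set j := (p - 1) * m / n with hj
  -- hm' : n * j + 1 = (p - 1) * m
  have he : (d ^ ((p - 1) * m)) ^ n = 1 := by
    rw [← pow_mul, mul_comm ((p - 1) * m) n, ← mul_assoc, hnm, pow_mul, h1, one_pow]
  obtain ⟨u, hu, hue⟩ := h.psi_surj _ he
  have hc : (d * (d ^ ((p - 1) * m))⁻¹) ^ (p - 1) = 1 := by
    rw [mul_pow, inv_pow, ← pow_mul, ← hm']
    have : (n * j + 1) * (p - 1) = (p ^ q - 1) * j + (p - 1) := by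
      rw [← hnm]; ring
    rw [this, pow_add, pow_mul, h1, one_pow, one_mul]
    exact mul_inv_cancel₀ (pow_ne_zero _ hd)
  obtain ⟨k, hk, hkc⟩ := h.prime_field_elt _ hc
  refine ⟨k, hk, u, hu, ?_⟩
  rw [← hkc, hue, mul_assoc, inv_mul_cancel₀ (pow_ne_zero _ hd), mul_one]

theorem conj_mem_P {u x : G} (hu : u ∈ U) (hx : x ∈ P) : u * x * u⁻¹ ∈ P :=
  (Subgroup.mem_normalizer_iff.mp (h.hUP hu) x).mp hx

theorem f_ne_zero {x : G} (hx : x ∈ P) (hx1 : x ≠ 1) : f x ≠ 0 := by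
  intro h0
  exact hx1 (h.hf.injOn hx P.one_mem (by rw [h0, h.f_one]))

theorem conj_form (s : G) (hs : s ∈ P) (hfs : f s = 1) {x : G} (hx : x ∈ P) (hx1 : x ≠ 1) :
    ∃ k : ℕ, ¬ p ∣ k ∧ ∃ u ∈ U, x = u * s ^ k * u⁻¹ := by
  obtain ⟨k, hk, u, hu, hd⟩ := h.decomp (f x) (h.f_ne_zero hx hx1)
  refine ⟨k, hk, u, hu, ?_⟩
  apply h.hf.injOn hx (h.conj_mem_P hu (P.pow_mem hs k))
  rw [(h.hψ u hu).2 _ (P.pow_mem hs k), h.f_pow hs, hfs, hd]
  ring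

theorem inf_PU {x : G} (hx : x ∈ P) (hxU : x ∈ U) : x = 1 := by
  have h1 := h.pow_p hx
  have h2 := h.pow_card_U hxU
  have h3 : orderOf x ∣ Nat.gcd ((p ^ q - 1) / (p - 1)) p :=
    Nat.dvd_gcd (orderOf_dvd_of_pow_eq_one h2) (orderOf_dvd_of_pow_eq_one h1)
  rw [h.n_coprime_p] at h3
  exact orderOf_eq_one_iff.mp (Nat.dvd_one.mp h3)

theorem mem_sup {g : G} (hg : g ∈ P ⊔ U) : ∃ x ∈ P, ∃ u ∈ U, g = x * u := by
  have h1 : g ∈ ((P ⊔ U : Subgroup G) : Set G) := hg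
  rw [Subgroup.coe_mul_of_right_le_normalizer_left P U h.hUP] at h1
  obtain ⟨x, hx, u, hu, rfl⟩ := h1
  exact ⟨x, hx, u, hu, rfl⟩

/-- `N_P(U) = 1`. -/
theorem norm_P_U {x : G} (hx : x ∈ P) (hxU : ∀ u ∈ U, x * u * x⁻¹ ∈ U) : x = 1 := by
  by_contra hx1
  have hfx := h.f_ne_zero hx hx1
  have hU : U = ⊥ := by
    rw [Subgroup.eq_bot_iff_forall]
    intro u hu
    have h1 : x * u * x⁻¹ * u⁻¹ ∈ U := U.mul_mem (hxU u hu) (U.inv_mem hu)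
    have h2 : x * u * x⁻¹ * u⁻¹ ∈ P := by
      have : x * u * x⁻¹ * u⁻¹ = x * (u * x⁻¹ * u⁻¹) := by group
      rw [this]
      exact P.mul_mem hx (h.conj_mem_P hu (P.inv_mem hx))
    have h3 := h.inf_PU h2 h1
    have h4 : u * x * u⁻¹ = x := by
      have : u * x * u⁻¹ = (x * u * x⁻¹ * u⁻¹)⁻¹ * x := by group
      rw [this, h3, inv_one, one_mul]
    have h5 := (h.hψ u hu).2 x hx
    rw [h4] at h5
    have h6 : ψ u = 1 := by
      have : (ψ u - 1) * f x = 0 := by linear_combination -h5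
      rcases mul_eq_zero.mp this with h7 | h7
      · exact sub_eq_zero.mp h7
      · exact absurd h7 hfx
    exact h.hψinj hu U.one_mem (by rw [h6, h.psi_one])
  have h8 := h.card_U
  rw [hU, Subgroup.card_bot] at h8
  have := h.n_gt_one
  omega

/-- An element of `H = P ⊔ U` of order dividing `p` lies in `P`. -/
theorem mem_P_of_pow {g : G} (hg : g ∈ P ⊔ U) (hgp : g ^ p = 1) : g ∈ P := by
  obtain ⟨x, hx, u, hu, rfl⟩ := h.mem_sup hg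
  obtain ⟨x', hx', hpow⟩ := pow_mul_form P x u hx (fun z hz => h.conj_mem_P hu hz) p
  rw [hgp] at hpow
  have h1 : u ^ p = x'⁻¹ := eq_inv_of_mul_eq_one_right hpow.symm
  have h2 : u ^ p = 1 := h.inf_PU (by rw [h1]; exact P.inv_mem hx') (U.pow_mem hu p)
  have h3 : orderOf u ∣ Nat.gcd ((p ^ q - 1) / (p - 1)) p :=
    Nat.dvd_gcd (orderOf_dvd_of_pow_eq_one (h.pow_card_U hu)) (orderOf_dvd_of_pow_eq_one h2)
  rw [h.n_coprime_p] at h3
  have h4 : u = 1 := orderOf_eq_one_iff.mp (Nat.dvd_one.mp h3)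
  rw [h4, mul_one]; exact hx

/-- `Q` has no nontrivial element of order dividing `p`. -/
theorem q_pow_p {z : G} (hz : z ∈ Q) (hzp : z ^ p = 1) : z = 1 := by
  have h1 : z ^ Nat.card Q = 1 := by
    have h1 : (⟨z, hz⟩ : Q) ^ Nat.card Q = 1 := pow_card_eq_one'
    have h2 := congrArg Subtype.val h1
    rw [Subgroup.coe_pow, Subgroup.coe_one] at h2
    exact h2
  have h3 : orderOf z ∣ Nat.gcd (Nat.card Q) p :=
    Nat.dvd_gcd (orderOf_dvd_of_pow_eq_one h1) (orderOf_dvd_of_pow_eq_one hzp)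
  rw [h.hQp] at h3
  exact orderOf_eq_one_iff.mp (Nat.dvd_one.mp h3)

/-- If `τ` normalizes `U` and conjugates one nontrivial element of `P` into `P`, it conjugates
all of `P` into `P` (`U` is irreducible on `P`). -/
theorem conj_all_of_one {τ : G} (hτU : ∀ u ∈ U, τ * u * τ⁻¹ ∈ U) {x0 : G} (hx0 : x0 ∈ P)
    (hx01 : x0 ≠ 1) (hτx0 : τ * x0 * τ⁻¹ ∈ P) : ∀ x ∈ P, τ * x * τ⁻¹ ∈ P := by
  intro x hx
  by_cases hx1 : x = 1
  · rw [hx1]; simp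
  have hf0 := h.f_ne_zero hx0 hx01
  have hfx := h.f_ne_zero hx hx1
  obtain ⟨k, hk, u, hu, hd⟩ := h.decomp (f x / f x0) (div_ne_zero hfx hf0)
  have hxe : x = (u * x0 * u⁻¹) ^ k := by
    apply h.hf.injOn hx (P.pow_mem (h.conj_mem_P hu hx0) k)
    rw [h.f_pow (h.conj_mem_P hu hx0), (h.hψ u hu).2 x0 hx0, ← mul_assoc, ← hd]
    field_simp
  rw [hxe, ← conj_pow]
  apply P.pow_mem
  have : τ * (u * x0 * u⁻¹) * τ⁻¹ = (τ * u * τ⁻¹) * (τ * x0 * τ⁻¹) * (τ * u * τ⁻¹)⁻¹ := by group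
  rw [this]
  exact h.conj_mem_P (hτU u hu) hτx0

theorem ti_gen {τ : G} (hτU : ∀ u ∈ U, τ * u * τ⁻¹ ∈ U) (hτP : ¬ ∀ x ∈ P, τ * x * τ⁻¹ ∈ P)
    {g : G} (hg : g ∈ P ⊔ U) (hτg : τ * g * τ⁻¹ ∈ P ⊔ U) : g ∈ U := by
  obtain ⟨x, hx, u, hu, rfl⟩ := h.mem_sup hg
  have h1 : τ * x * τ⁻¹ ∈ P ⊔ U := by
    have : τ * x * τ⁻¹ = (τ * (x * u) * τ⁻¹) * (τ * u * τ⁻¹)⁻¹ := by group
    rw [this]
    exact (P ⊔ U).mul_mem hτg ((P ⊔ U).inv_mem (le_sup_right (a := P) (hτU u hu)))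
  have h2 : (τ * x * τ⁻¹) ^ p = 1 := by rw [conj_pow, h.pow_p hx]; group
  have h3 := h.mem_P_of_pow h1 h2
  have hx1 : x = 1 := by
    by_contra hx1
    exact hτP (h.conj_all_of_one hτU hx hx1 h3)
  rw [hx1, one_mul]; exact hu

theorem t_mem_norm (s : G) (hs : s ∈ P) (hfs : f s = 1) :
    y * s * y⁻¹ ∈ Subgroup.normalizer (U : Set G) :=
  h.hP0U s hs (by rw [hfs, one_pow])

theorem t_norm (s : G) (hs : s ∈ P) (hfs : f s = 1) (k : ℤ) {u : G} (hu : u ∈ U) :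
    (y * s * y⁻¹) ^ k * u * ((y * s * y⁻¹) ^ k)⁻¹ ∈ U :=
  (Subgroup.mem_normalizer_iff.mp (Subgroup.zpow_mem _ (h.t_mem_norm s hs hfs) k) u).mp hu

theorem t_pow (s : G) (hs : s ∈ P) (hfs : f s = 1) : (y * s * y⁻¹) ^ p = 1 := by
  rw [conj_pow, h.pow_p hs]; group

theorem s_mem_normQ (s : G) (hs : s ∈ P) (hfs : f s = 1) :
    s ∈ Subgroup.normalizer (Q : Set G) :=
  h.hP0Q s hs (by rw [hfs, one_pow])

theorem not_conj_all (s : G) (hs : s ∈ P) (hfs : f s = 1) (k : ℤ) (hk : ¬ (p : ℤ) ∣ k) :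
    ¬ ∀ x ∈ P, (y * s * y⁻¹) ^ k * x * ((y * s * y⁻¹) ^ k)⁻¹ ∈ P := by
  intro hall
  have htk : (y * s * y⁻¹) ^ k = y * s ^ k * y⁻¹ := conj_zpow
  have hsk : s ^ (-k) ∈ Subgroup.normalizer (Q : Set G) :=
    Subgroup.zpow_mem _ (h.s_mem_normQ s hs hfs) _
  have hcQ : s ^ (-k) * (y * s * y⁻¹) ^ k ∈ Q := by
    have h1 := (Subgroup.mem_normalizer_iff.mp hsk y).mp h.hy
    have : s ^ (-k) * (y * s * y⁻¹) ^ k = (s ^ (-k) * y * (s ^ (-k))⁻¹) * y⁻¹ := by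
      rw [htk, zpow_neg]; group
    rw [this]; exact Q.mul_mem h1 (Q.inv_mem h.hy)
  have hskP : s ^ k ∈ P := P.zpow_mem hs k
  have hcP : ∀ x ∈ P, (s ^ (-k) * (y * s * y⁻¹) ^ k) * x * (s ^ (-k) * (y * s * y⁻¹) ^ k)⁻¹ ∈ P := by
    intro x hx
    have : (s ^ (-k) * (y * s * y⁻¹) ^ k) * x * (s ^ (-k) * (y * s * y⁻¹) ^ k)⁻¹
        = s ^ (-k) * ((y * s * y⁻¹) ^ k * x * ((y * s * y⁻¹) ^ k)⁻¹) * (s ^ (-k))⁻¹ := by
      rw [mul_inv_rev]; simp only [mul_assoc]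
    rw [this]
    exact P.mul_mem (P.mul_mem (P.zpow_mem hs _) (hall x hx)) (P.inv_mem (P.zpow_mem hs _))
  obtain ⟨x', hx', hpow⟩ := pow_mul_form P (s ^ k) (s ^ (-k) * (y * s * y⁻¹) ^ k) hskP hcP p
  have h1 : s ^ k * (s ^ (-k) * (y * s * y⁻¹) ^ k) = (y * s * y⁻¹) ^ k := by
    rw [zpow_neg, mul_inv_cancel_left]
  have h2 : ((y * s * y⁻¹) ^ k) ^ p = 1 := by
    rw [← zpow_natCast, ← zpow_mul, mul_comm, zpow_mul, zpow_natCast, h.t_pow s hs hfs, one_zpow]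
  rw [h1, h2] at hpow
  have h3 : (s ^ (-k) * (y * s * y⁻¹) ^ k) ^ p = x'⁻¹ := eq_inv_of_mul_eq_one_right hpow.symm
  have h4 : (s ^ (-k) * (y * s * y⁻¹) ^ k) ^ p = 1 := by
    apply h.q_pow_p (Q.pow_mem hcQ p)
    rw [h3]; exact h.pow_p (P.inv_mem hx')
  have h5 : s ^ (-k) * (y * s * y⁻¹) ^ k = 1 := h.q_pow_p hcQ h4
  have h6 : (y * s * y⁻¹) ^ k = s ^ k := by
    rw [← h1, h5, mul_one]
  have h7 : s ^ k = 1 := by
    apply h.norm_P_U hskP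
    intro u hu
    rw [← h6]
    exact h.t_norm s hs hfs k hu
  have h8 := h.f_zpow hs k
  rw [h7, h.f_one, hfs, mul_one] at h8
  have _ := h.charP
  exact hk ((CharP.intCast_eq_zero_iff F p k).mp h8.symm)

/-- `H ∩ H^(t^k) = U` for `p ∤ k`. -/
theorem ti (s : G) (hs : s ∈ P) (hfs : f s = 1) (k : ℤ) (hk : ¬ (p : ℤ) ∣ k) {g : G}
    (hg : g ∈ P ⊔ U) (hg' : (y * s * y⁻¹) ^ k * g * ((y * s * y⁻¹) ^ k)⁻¹ ∈ P ⊔ U) : g ∈ U :=
  h.ti_gen (fun u hu => h.t_norm s hs hfs k hu) (h.not_conj_all s hs hfs k hk) hg hg'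

theorem rigid (s : G) (hs : s ∈ P) (hfs : f s = 1) (i j : ℤ) (hij : ¬ (p : ℤ) ∣ i - j)
    {x x' : G} (hx : x ∈ P) (hx' : x' ∈ P)
    (he : (y * s * y⁻¹) ^ i * x * ((y * s * y⁻¹) ^ i)⁻¹
      = (y * s * y⁻¹) ^ j * x' * ((y * s * y⁻¹) ^ j)⁻¹) : x = 1 ∧ x' = 1 := by
  have h1 : (y * s * y⁻¹) ^ (i - j) * x * ((y * s * y⁻¹) ^ (i - j))⁻¹ = x' := by
    have : (y * s * y⁻¹) ^ (i - j) * x * ((y * s * y⁻¹) ^ (i - j))⁻¹
        = ((y * s * y⁻¹) ^ j)⁻¹ * ((y * s * y⁻¹) ^ i * x * ((y * s * y⁻¹) ^ i)⁻¹)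
          * (y * s * y⁻¹) ^ j := by
      generalize y * s * y⁻¹ = T
      group
    rw [this, he]
    simp only [mul_assoc, inv_mul_cancel_left, inv_mul_cancel, mul_one]
  have h2 : x ∈ U := h.ti s hs hfs (i - j) hij (le_sup_left (b := U) hx)
    (by rw [h1]; exact le_sup_left (b := U) hx')
  have h3 : x = 1 := h.inf_PU hx h2
  refine ⟨h3, ?_⟩
  rw [← h1, h3, mul_one, mul_inv_cancel]

/-- Lemma S. -/
theorem lemma_S (s : G) (hs : s ∈ P) (hfs : f s = 1) (a b c : ℤ)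
    (hw : (y * s * y⁻¹) ^ a * s ^ b * (y * s * y⁻¹) ^ c ∈ P ⊔ U) (ha : ¬ (p : ℤ) ∣ a) :
    (p : ℤ) ∣ b := by
  have hsb : s ^ b ∈ P := P.zpow_mem hs b
  have h1 : s ^ b = 1 := by
    apply h.norm_P_U hsb
    intro u hu
    apply h.ti s hs hfs a ha
    · exact (P ⊔ U).mul_mem ((P ⊔ U).mul_mem (le_sup_left (b := U) hsb)
        (le_sup_right (a := P) hu)) ((P ⊔ U).inv_mem (le_sup_left (b := U) hsb))
    · have hu' : ((y * s * y⁻¹) ^ c)⁻¹ * u * (y * s * y⁻¹) ^ c ∈ U := by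
        have := h.t_norm s hs hfs (-c) hu
        rw [zpow_neg, inv_inv] at this
        exact this
      have : (y * s * y⁻¹) ^ a * (s ^ b * u * (s ^ b)⁻¹) * ((y * s * y⁻¹) ^ a)⁻¹
          = ((y * s * y⁻¹) ^ a * s ^ b * (y * s * y⁻¹) ^ c)
            * (((y * s * y⁻¹) ^ c)⁻¹ * u * (y * s * y⁻¹) ^ c)
            * ((y * s * y⁻¹) ^ a * s ^ b * (y * s * y⁻¹) ^ c)⁻¹ := by
        simp only [mul_inv_rev, mul_assoc, inv_mul_cancel_left, mul_inv_cancel_left, inv_inv,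
          mul_inv_cancel, mul_one]
      rw [this]
      exact (P ⊔ U).mul_mem ((P ⊔ U).mul_mem hw (le_sup_right (a := P) hu')) ((P ⊔ U).inv_mem hw)
  have h8 := h.f_zpow hs b
  rw [h1, h.f_one, hfs, mul_one] at h8
  have _ := h.charP
  exact (CharP.intCast_eq_zero_iff F p b).mp h8.symm

theorem exists_s : ∃ s ∈ P, f s = 1 := by
  obtain ⟨s, hs, hfs⟩ := h.hf.surjOn (Set.mem_univ (1 : F))
  exact ⟨s, hs, hfs⟩

/-- `d ^ (p - 1)` is in `ψ(U)`: so `[d ^ p] = w [d] w⁻¹` with `ψ w = d ^ (p - 1)`. -/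
theorem frob (d : F) (hd : d ≠ 0) : ∃ w ∈ U, ψ w = d ^ (p - 1) := by
  apply h.psi_surj
  rw [← pow_mul, mul_comm, h.n_mul]
  have := FiniteField.pow_card_sub_one_eq_one d hd
  rwa [h.hF] at this

/-- `x ↦ x ^ (p - 1)` is injective on `ψ(U)`. -/
theorem pow_inj {u v : G} (hu : u ∈ U) (hv : v ∈ U) (he : ψ u ^ (p - 1) = ψ v ^ (p - 1)) :
    u = v := by
  apply h.hψinj hu hv
  have hv0 := (h.hψ v hv).1
  have h1 : (ψ u / ψ v) ^ (p - 1) = 1 := by rw [div_pow, he, div_self (pow_ne_zero _ hv0)]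
  have h2 : (ψ u / ψ v) ^ ((p ^ q - 1) / (p - 1)) = 1 := by
    rw [div_pow, h.psi_pow_n hu, h.psi_pow_n hv, div_one]
  have h3 : orderOf (ψ u / ψ v) ∣ Nat.gcd ((p ^ q - 1) / (p - 1)) (p - 1) :=
    Nat.dvd_gcd (orderOf_dvd_of_pow_eq_one h2) (orderOf_dvd_of_pow_eq_one h1)
  rw [h.hA] at h3
  have h4 : ψ u / ψ v = 1 := orderOf_eq_one_iff.mp (Nat.dvd_one.mp h3)
  exact (div_eq_one_iff_eq hv0).mp h4

end Cfg

section Wrappers

variable {G : Type*} [Group G] [Finite G] (p q : ℕ) [Fact p.Prime] [Fact q.Prime]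
  (hA : Nat.Coprime ((p ^ q - 1) / (p - 1)) (p - 1))
  (F : Type*) [Field F] [Fintype F] (hF : Fintype.card F = p ^ q) (P U Q : Subgroup G)
  (f ψ : G → F)
  (hf : Set.BijOn f (P : Set G) Set.univ) (hfadd : ∀ x ∈ P, ∀ z ∈ P, f (x * z) = f x + f z)
  (hUP : U ≤ Subgroup.normalizer (P : Set G))
  (hψ : ∀ u ∈ U, ψ u ≠ 0 ∧ ∀ x ∈ P, f (u * x * u⁻¹) = ψ u * f x)
  (hψmul : ∀ u ∈ U, ∀ v ∈ U, ψ (u * v) = ψ u * ψ v) (hψinj : Set.InjOn ψ (U : Set G))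
  (hUcard : Nat.card U * (p - 1) = p ^ q - 1)
  (hQ : IsMulCommutative Q) (hQp : (Nat.card Q).Coprime p)
  (hP0Q : ∀ x ∈ P, f x ^ p = f x → x ∈ Subgroup.normalizer (Q : Set G))
  (y : G) (hy : y ∈ Q)
  (hP0U : ∀ x ∈ P, f x ^ p = f x → y * x * y⁻¹ ∈ Subgroup.normalizer (U : Set G))
include hA hF hf hfadd hUP hψ hψmul hψinj hUcard hQ hQp hP0Q hy hP0U

/-- The S1472 hypotheses as a bundle. -/
theorem pre_cfg : Cfg p q F P U Q f ψ y :=
  ⟨hA, hF, hf, hfadd, hUP, hψ, hψmul, hψinj, hUcard, hQ, hQp, hP0Q, hy, hP0U⟩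

theorem pre_f_one :
    f 1 = 0 :=
  
    (pre_cfg p q hA F hF P U Q f ψ hf hfadd hUP hψ hψmul hψinj hUcard hQ hQp hP0Q y hy hP0U).f_one

theorem pre_f_inv :
    ∀ x ∈ P, f x⁻¹ = - f x :=
  fun x hx => (pre_cfg p q hA F hF P U Q f ψ hf hfadd hUP hψ hψmul hψinj hUcard hQ hQp hP0Q y hy hP0U).f_inv hx

theorem pre_f_zpow :
    ∀ x ∈ P, ∀ k : ℤ, f (x ^ k) = (k : F) * f x :=
  fun x hx k => (pre_cfg p q hA F hF P U Q f ψ hf hfadd hUP hψ hψmul hψinj hUcard hQ hQp hP0Q y hy hP0U).f_zpow hx k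

theorem pre_pow_p :
    ∀ x ∈ P, x ^ p = 1 :=
  fun x hx => (pre_cfg p q hA F hF P U Q f ψ hf hfadd hUP hψ hψmul hψinj hUcard hQ hQp hP0Q y hy hP0U).pow_p hx

theorem pre_charP :
    CharP F p :=
  
    (pre_cfg p q hA F hF P U Q f ψ hf hfadd hUP hψ hψmul hψinj hUcard hQ hQp hP0Q y hy hP0U).charP

theorem pre_card_U :
    Nat.card U = (p ^ q - 1) / (p - 1) :=
  
    (pre_cfg p q hA F hF P U Q f ψ hf hfadd hUP hψ hψmul hψinj hUcard hQ hQp hP0Q y hy hP0U).card_U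

theorem pre_n_gt_one :
    1 < (p ^ q - 1) / (p - 1) :=
  
    (pre_cfg p q hA F hF P U Q f ψ hf hfadd hUP hψ hψmul hψinj hUcard hQ hQp hP0Q y hy hP0U).n_gt_one

theorem pre_n_coprime_p :
    Nat.Coprime ((p ^ q - 1) / (p - 1)) p :=
  
    (pre_cfg p q hA F hF P U Q f ψ hf hfadd hUP hψ hψmul hψinj hUcard hQ hQp hP0Q y hy hP0U).n_coprime_p

theorem pre_psi_one :
    ψ 1 = 1 :=
  
    (pre_cfg p q hA F hF P U Q f ψ hf hfadd hUP hψ hψmul hψinj hUcard hQ hQp hP0Q y hy hP0U).psi_one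

theorem pre_psi_pow :
    ∀ u ∈ U, ψ u ^ ((p ^ q - 1) / (p - 1)) = 1 :=
  fun u hu => (pre_cfg p q hA F hF P U Q f ψ hf hfadd hUP hψ hψmul hψinj hUcard hQ hQp hP0Q y hy hP0U).psi_pow_n hu

theorem pre_psi_surj :
    ∀ d : F, d ^ ((p ^ q - 1) / (p - 1)) = 1 → ∃ u ∈ U, ψ u = d :=
  fun d hd => (pre_cfg p q hA F hF P U Q f ψ hf hfadd hUP hψ hψmul hψinj hUcard hQ hQp hP0Q y hy hP0U).psi_surj d hd

theorem pre_decomp :
    ∀ d : F, d ≠ 0 → ∃ k : ℕ, ¬ p ∣ k ∧ ∃ u ∈ U, d = (k : F) * ψ u :=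
  fun d hd => (pre_cfg p q hA F hF P U Q f ψ hf hfadd hUP hψ hψmul hψinj hUcard hQ hQp hP0Q y hy hP0U).decomp d hd

theorem pre_frob :
    ∀ d : F, d ≠ 0 → ∃ w ∈ U, ψ w = d ^ (p - 1) :=
  fun d hd => (pre_cfg p q hA F hF P U Q f ψ hf hfadd hUP hψ hψmul hψinj hUcard hQ hQp hP0Q y hy hP0U).frob d hd

theorem pre_pow_inj :
    ∀ u ∈ U, ∀ v ∈ U, ψ u ^ (p - 1) = ψ v ^ (p - 1) → u = v :=
  fun u hu v hv he => (pre_cfg p q hA F hF P U Q f ψ hf hfadd hUP hψ hψmul hψinj hUcard hQ hQp hP0Q y hy hP0U).pow_inj hu hv he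

theorem pre_exists_s :
    ∃ s ∈ P, f s = 1 :=
  
    (pre_cfg p q hA F hF P U Q f ψ hf hfadd hUP hψ hψmul hψinj hUcard hQ hQp hP0Q y hy hP0U).exists_s

theorem pre_conj_mem_P :
    ∀ u ∈ U, ∀ x ∈ P, u * x * u⁻¹ ∈ P :=
  fun u hu x hx => (pre_cfg p q hA F hF P U Q f ψ hf hfadd hUP hψ hψmul hψinj hUcard hQ hQp hP0Q y hy hP0U).conj_mem_P hu hx

theorem pre_conj_form (s : G) (hs : s ∈ P) (hfs : f s = 1) :
    ∀ x ∈ P, x ≠ 1 → ∃ k : ℕ, ¬ p ∣ k ∧ ∃ u ∈ U, x = u * s ^ k * u⁻¹ :=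
  fun x hx hx1 => (pre_cfg p q hA F hF P U Q f ψ hf hfadd hUP hψ hψmul hψinj hUcard hQ hQp hP0Q y hy hP0U).conj_form s hs hfs hx hx1

theorem pre_inf :
    ∀ x ∈ P, x ∈ U → x = 1 :=
  fun x hx hxU => (pre_cfg p q hA F hF P U Q f ψ hf hfadd hUP hψ hψmul hψinj hUcard hQ hQp hP0Q y hy hP0U).inf_PU hx hxU

theorem pre_mem_sup :
    ∀ g ∈ P ⊔ U, ∃ x ∈ P, ∃ u ∈ U, g = x * u :=
  fun g hg => (pre_cfg p q hA F hF P U Q f ψ hf hfadd hUP hψ hψmul hψinj hUcard hQ hQp hP0Q y hy hP0U).mem_sup hg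

theorem pre_norm_P_U :
    ∀ x ∈ P, (∀ u ∈ U, x * u * x⁻¹ ∈ U) → x = 1 :=
  fun x hx hxU => (pre_cfg p q hA F hF P U Q f ψ hf hfadd hUP hψ hψmul hψinj hUcard hQ hQp hP0Q y hy hP0U).norm_P_U hx hxU

theorem pre_mem_P_of_pow :
    ∀ g ∈ P ⊔ U, g ^ p = 1 → g ∈ P :=
  fun g hg hgp => (pre_cfg p q hA F hF P U Q f ψ hf hfadd hUP hψ hψmul hψinj hUcard hQ hQp hP0Q y hy hP0U).mem_P_of_pow hg hgp

theorem pre_t_norm (s : G) (hs : s ∈ P) (hfs : f s = 1) :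
    ∀ k : ℤ, ∀ u ∈ U, (y * s * y⁻¹) ^ k * u * (y * s * y⁻¹) ^ (-k) ∈ U :=
  fun k u hu => by
  rw [zpow_neg]; exact (pre_cfg p q hA F hF P U Q f ψ hf hfadd hUP hψ hψmul hψinj hUcard hQ hQp hP0Q y hy hP0U).t_norm s hs hfs k hu

theorem pre_t_pow (s : G) (hs : s ∈ P) (hfs : f s = 1) :
    (y * s * y⁻¹) ^ p = 1 :=
  
    (pre_cfg p q hA F hF P U Q f ψ hf hfadd hUP hψ hψmul hψinj hUcard hQ hQp hP0Q y hy hP0U).t_pow s hs hfs

theorem pre_ti (s : G) (hs : s ∈ P) (hfs : f s = 1) :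
    ∀ k : ℤ, ¬ (p : ℤ) ∣ k → ∀ g ∈ P ⊔ U,
    (y * s * y⁻¹) ^ k * g * (y * s * y⁻¹) ^ (-k) ∈ P ⊔ U → g ∈ U :=
  fun k hk g hg hg' => by
  rw [zpow_neg] at hg'; exact (pre_cfg p q hA F hF P U Q f ψ hf hfadd hUP hψ hψmul hψinj hUcard hQ hQp hP0Q y hy hP0U).ti s hs hfs k hk hg hg'

theorem pre_rigid (s : G) (hs : s ∈ P) (hfs : f s = 1) :
    ∀ i j : ℤ, ¬ (p : ℤ) ∣ i - j → ∀ x ∈ P, ∀ x' ∈ P,
    (y * s * y⁻¹) ^ i * x * (y * s * y⁻¹) ^ (-i) = (y * s * y⁻¹) ^ j * x' * (y * s * y⁻¹) ^ (-j) → x = 1 ∧ x' = 1 :=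
  fun i j hij x hx x' hx' he => by
  rw [zpow_neg, zpow_neg] at he; exact (pre_cfg p q hA F hF P U Q f ψ hf hfadd hUP hψ hψmul hψinj hUcard hQ hQp hP0Q y hy hP0U).rigid s hs hfs i j hij hx hx' he

theorem pre_lemma_S (s : G) (hs : s ∈ P) (hfs : f s = 1) :
    ∀ a b c : ℤ, (y * s * y⁻¹) ^ a * s ^ b * (y * s * y⁻¹) ^ c ∈ P ⊔ U → ¬ (p : ℤ) ∣ a → (p : ℤ) ∣ b :=
  fun a b c hw ha => (pre_cfg p q hA F hF P U Q f ψ hf hfadd hUP hψ hψmul hψinj hUcard hQ hQp hP0Q y hy hP0U).lemma_S s hs hfs a b c hw ha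

end Wrappers

end Cfsg.Agent.Lib.Helper9.AppC
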